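import Groth.Agent.Lib.Snapper.DimLT
import Groth.Agent.Lib.CMReg.ProjSpace
import Groth.Agent.Lib.ProjDim.Basic
import Mathlib.GroupTheory.CosetCover

/-!
# Covering by few hypersurface complements
-/

universe u

set_option backward.isDefEq.respectTransparency false
set_option linter.all false

open AlgebraicGeometry CategoryTheory TopologicalSpace

noncomputable section

namespace GrothLib.LinProj

open GrothLib.Snapper (DimLT)

/-- Finitely many points generalise all the points of a closed set. -/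
theorem exists_finite_generalizing {P : Scheme.{u}} [NoetherianSpace P] {Z : Set P} (hZ : IsClosed Z) :
    ∃ T : Set P, T.Finite ∧ T ⊆ Z ∧ ∀ x ∈ Z, ∃ η ∈ T, η ⤳ x := by
  obtain ⟨F, hF, hFirr, hFcl, hcov⟩ := NoetherianSpace.exists_finite_set_isClosed_irreducible hZ
  choose η hη using fun C : F => QuasiSober.sober (hFcl C C.2) (hFirr C C.2)
  haveI := hF.to_subtype
  refine ⟨Set.range η, Set.finite_range η, ?_, fun x hx => ?_⟩
  · rintro _ ⟨C, rfl⟩
    exact hcov.ge (Set.mem_sUnion_of_mem (hη C).mem C.2)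
  · obtain ⟨C, hC, hxC⟩ := (hcov ▸ hx : x ∈ ⋃₀ F)
    exact ⟨η ⟨C, hC⟩, ⟨_, rfl⟩, (hη ⟨C, hC⟩).specializes hxC⟩

/-- If an open of `𝒰` contains any finitely many points off `W`, then `r` of them cover a set of dimension `< r`
off `W`. -/
theorem exists_cover {P : Scheme.{u}} [NoetherianSpace P] {W : Set P} (hW : IsClosed W) (𝒰 : Set P.Opens)
    (h : ∀ T : Set P, T.Finite → Disjoint T W → ∃ U ∈ 𝒰, T ⊆ U) :
    ∀ (r : ℕ) (Z : Set P), IsClosed Z → DimLT (Z \ W) r →
      ∃ U : Fin r → P.Opens, (∀ i, U i ∈ 𝒰) ∧ Z \ W ⊆ ⋃ i, (U i : Set P) := by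
  intro r
  induction r with
  | zero =>
    intro Z _ hd
    exact ⟨Fin.elim0, fun i => i.elim0, by rw [Snapper.eq_empty_of_dimLT_zero hd]; exact Set.empty_subset _⟩
  | succ r ih =>
    intro Z hZ hd
    obtain ⟨T, hT, hTZ, hgen⟩ := exists_finite_generalizing hZ
    obtain ⟨U, hU, hTU⟩ := h (T \ W) hT.sdiff Set.disjoint_sdiff_left
    have hd' : DimLT ((Z \ (U : Set P)) \ W) r := by
      intro l hl
      obtain ⟨η, hη, hs⟩ := hgen l.last (hl _).1.1
      have hηW : η ∉ W := fun hw => (hl _).2 (hs.mem_closed hW hw)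
      have hlast : l.last < η := lt_of_le_not_ge hs fun h2 => (hl (Fin.last _)).1.2 (by
        have he : l (Fin.last _) = η := (Specializes.antisymm (show l.last ⤳ η from h2) hs).eq
        rw [he]
        exact hTU ⟨hη, hηW⟩)
      have := hd (l.snoc η hlast) fun i => by
        refine Fin.lastCases ?_ (fun i => ?_) i
        · rw [show (l.snoc η hlast) (Fin.last _) = η from RelSeries.last_snoc l η hlast]
          exact ⟨hTZ hη, hηW⟩
        · rw [show (l.snoc η hlast) i.castSucc = l i from RelSeries.snoc_castSucc l η hlast i]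
          exact ⟨(hl i).1.1, (hl i).2⟩
      simp at this
      omega
    obtain ⟨V, hV, hcov⟩ := ih (Z \ (U : Set P)) (hZ.inter U.isOpen.isClosed_compl) hd'
    refine ⟨Fin.cons U V, fun i => Fin.cases hU hV i, fun x hx => ?_⟩
    by_cases hxU : x ∈ U
    · exact Set.mem_iUnion.2 ⟨0, hxU⟩
    · obtain ⟨i, hi⟩ := Set.mem_iUnion.1 (hcov ⟨⟨hx.1, hxU⟩, hx.2⟩)
      exact Set.mem_iUnion.2 ⟨i.succ, by simpa using hi⟩

variable {n : ℕ} {k : Type u} [Field k]

theorem noetherianSpace_projSpace : NoetherianSpace (CohB1.ProjSpace n k) := by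
  haveI := CMReg.isNoetherian_projSpace (n := n) (k := k)
  infer_instance

/-- A linear form off finitely many points, over an infinite field. -/
theorem exists_linear_avoid [Infinite k] (T : Set (CohB1.ProjSpace n k)) (hT : T.Finite) :
    ∃ l : MvPolynomial (Fin (n + 1)) k, l ∈ CohB1.polyGrading n k 1 ∧
      T ⊆ {x | l ∉ x.asHomogeneousIdeal} := by
  classical
  let E := CohB1.polyGrading n k 1
  let p : CohB1.ProjSpace n k → Subspace k E := fun y =>
    { carrier := {l | (l : MvPolynomial (Fin (n + 1)) k) ∈ y.asHomogeneousIdeal.toIdeal}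
      add_mem' := fun {a b} ha hb => Ideal.add_mem _ ha hb
      zero_mem' := Ideal.zero_mem _
      smul_mem' := fun c a ha => by
        rw [Set.mem_setOf_eq, Submodule.coe_smul, Algebra.smul_def]
        exact Ideal.mul_mem_left _ _ ha }
  have hne : ∀ y, p y ≠ ⊤ := fun y h => by
    obtain ⟨b, hb, hby⟩ := CMReg.exists_notMem y
    exact hby (show (⟨b, hb⟩ : E) ∈ p y by rw [h]; trivial)
  have h := Subspace.biUnion_ne_univ_of_top_notMem (s := hT.toFinset.image p) (by
    simp only [Finset.mem_image, not_exists, not_and]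
    exact fun y _ => hne y)
  obtain ⟨l, hl⟩ := (Set.ne_univ_iff_exists_notMem _).1 h
  refine ⟨l, l.2, fun y hy => ?_⟩
  by_contra hly
  refine hl (Set.mem_biUnion (Finset.mem_image_of_mem p (hT.mem_toFinset.2 hy)) ?_)
  exact not_not.1 hly

/-- Raising to positive degree. -/
theorem exists_pos_degree {y : CohB1.ProjSpace n k} {d : ℕ} {a : MvPolynomial (Fin (n + 1)) k}
    (ha : a.IsHomogeneous d) (hy : a ∉ y.asHomogeneousIdeal) :
    ∃ (e : ℕ) (b : MvPolynomial (Fin (n + 1)) k), 0 < e ∧ (a * b).IsHomogeneous e ∧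
      a * b ∉ y.asHomogeneousIdeal := by
  obtain ⟨x, hx, hxy⟩ := CMReg.exists_notMem y
  exact ⟨d + 1, x, Nat.succ_pos _, ha.mul hx, fun h => (y.isPrime.mem_or_mem h).elim hy hxy⟩

/-- A homogeneous form vanishing on a closed set, off finitely many given points outside it. -/
theorem exists_hom_avoid {W : Set (CohB1.ProjSpace n k)} (hW : IsClosed W) (T : Set (CohB1.ProjSpace n k))
    (hT : T.Finite) (hTW : Disjoint T W) :
    ∃ (d : ℕ) (h : MvPolynomial (Fin (n + 1)) k), 0 < d ∧ h.IsHomogeneous d ∧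
      Disjoint {x | h ∉ x.asHomogeneousIdeal} W ∧
      T ⊆ {x | h ∉ x.asHomogeneousIdeal} := by
  classical
  let P := CohB1.polyGrading n k
  let T' := hT.toFinset.filter fun y => ∀ z ∈ hT.toFinset,
    y.asHomogeneousIdeal ≤ z.asHomogeneousIdeal → z = y
  have hmax : ∀ z ∈ T, ∃ y ∈ T', z.asHomogeneousIdeal ≤ y.asHomogeneousIdeal := fun z hz => by
    obtain ⟨I, hzI, hI⟩ := (hT.toFinset.image fun y => y.asHomogeneousIdeal).exists_le_maximal
      (Finset.mem_image_of_mem _ (hT.mem_toFinset.2 hz))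
    obtain ⟨y, hy, rfl⟩ := Finset.mem_image.1 hI.1
    exact ⟨y, Finset.mem_filter.2 ⟨hy, fun w hw hyw => (ProjectiveSpectrum.ext
      (le_antisymm hyw (hI.2 (Finset.mem_image_of_mem _ hw) hyw))).symm⟩, hzI⟩
  have hf : ∀ y ∈ T', ∃ (e : ℕ) (f : MvPolynomial (Fin (n + 1)) k), f.IsHomogeneous e ∧
      f ∉ y.asHomogeneousIdeal ∧ Disjoint {x : CohB1.ProjSpace n k | f ∉ x.asHomogeneousIdeal} W := fun y hy => by
    obtain ⟨_, ⟨f, rfl⟩, hyf, hfW⟩ := (ProjectiveSpectrum.isTopologicalBasis_basic_opens P).exists_subset_of_mem_open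
      (show y ∈ Wᶜ from Set.disjoint_left.1 hTW (hT.mem_toFinset.1 (Finset.mem_filter.1 hy).1)) hW.isOpen_compl
    rw [SetLike.mem_coe, ProjectiveSpectrum.basicOpen_eq_union_of_projection, Opens.mem_iSup] at hyf
    obtain ⟨e, he⟩ := hyf
    refine ⟨e, GradedRing.proj P e f, (DirectSum.decompose P f e).2, he, Set.disjoint_left.2 fun x hx => hfW ?_⟩
    rw [SetLike.mem_coe, ProjectiveSpectrum.basicOpen_eq_union_of_projection, Opens.mem_iSup]
    exact ⟨e, hx⟩
  have hsep : ∀ y ∈ T', ∀ z ∈ T', z ≠ y → ∃ (e : ℕ) (a : MvPolynomial (Fin (n + 1)) k), a.IsHomogeneous e ∧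
      a ∉ y.asHomogeneousIdeal ∧ a ∈ z.asHomogeneousIdeal := fun y hy z hz hzy => by
    have hnle : ¬ z.asHomogeneousIdeal ≤ y.asHomogeneousIdeal := fun h =>
      hzy ((Finset.mem_filter.1 hz).2 y (Finset.mem_filter.1 hy).1 h).symm
    obtain ⟨a, haz, hay⟩ := SetLike.not_le_iff_exists.1 hnle
    obtain ⟨e, he⟩ : ∃ e, (DirectSum.decompose P a e : MvPolynomial (Fin (n + 1)) k) ∉ y.asHomogeneousIdeal := by
      by_contra hne
      push Not at hne
      refine hay ?_
      rw [← DirectSum.sum_support_decompose P a]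
      exact Submodule.sum_mem _ fun e _ => hne e
    exact ⟨e, (DirectSum.decompose P a e : MvPolynomial (Fin (n + 1)) k), (DirectSum.decompose P a e).2, he,
      z.asHomogeneousIdeal.isHomogeneous e haz⟩
  have hg : ∀ y ∈ T', ∃ (e : ℕ) (g : MvPolynomial (Fin (n + 1)) k), 0 < e ∧ g.IsHomogeneous e ∧
      g ∉ y.asHomogeneousIdeal ∧ (∀ z ∈ T', z ≠ y → g ∈ z.asHomogeneousIdeal) ∧ ∀ x ∈ W, g ∈ x.asHomogeneousIdeal := by
    intro y hy
    obtain ⟨e₀, f, hf0, hfy, hfW⟩ := hf y hy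
    choose e a ha hay haz using fun z : {z // z ∈ T'.erase y} =>
      hsep y hy z.1 (Finset.mem_of_mem_erase z.2) (Finset.ne_of_mem_erase z.2)
    have hp : (f * ∏ z, a z).IsHomogeneous (e₀ + ∑ z, e z) :=
      hf0.mul (MvPolynomial.IsHomogeneous.prod _ _ _ fun z _ => ha z)
    have hpy : f * ∏ z, a z ∉ y.asHomogeneousIdeal := fun h => by
      rcases y.isPrime.mem_or_mem h with h | h
      · exact hfy h
      · obtain ⟨z, -, hz⟩ := (y.isPrime.prod_mem_iff).1 h
        exact hay z hz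
    obtain ⟨e', b, he', hb, hby⟩ := exists_pos_degree hp hpy
    refine ⟨e', _, he', hb, hby, fun z hz hzy => ?_, fun x hx => ?_⟩
    · refine Ideal.mul_mem_right _ _ (Ideal.mul_mem_left _ _ ?_)
      have hmem : z ∈ T'.erase y := Finset.mem_erase.2 ⟨hzy, hz⟩
      rw [← Finset.mul_prod_erase _ _ (Finset.mem_univ ⟨z, hmem⟩)]
      exact Ideal.mul_mem_right _ _ (haz ⟨z, hmem⟩)
    · refine Ideal.mul_mem_right _ _ (Ideal.mul_mem_right _ _ ?_)
      exact not_not.1 fun hxf => Set.disjoint_left.1 hfW hxf hx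
  choose e g he hgh hgy hgz hgW using fun y : {y // y ∈ T'} => hg y.1 y.2
  let D := ∏ y, e y
  have hD : 0 < D := Finset.prod_pos fun y _ => he y
  have hdvd : ∀ y, e y ∣ D := fun y => Finset.dvd_prod_of_mem _ (Finset.mem_univ y)
  have hpos : ∀ y, 0 < D / e y := fun y => Nat.div_pos (Nat.le_of_dvd hD (hdvd y)) (he y)
  refine ⟨D, ∑ y, g y ^ (D / e y), hD, ?_, ?_, ?_⟩
  · refine MvPolynomial.IsHomogeneous.sum _ _ _ fun y _ => ?_
    have := (hgh y).pow (D / e y)
    rwa [Nat.mul_div_cancel' (hdvd y)] at this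
  · refine Set.disjoint_left.2 fun x hx hxW => hx ?_
    exact Submodule.sum_mem _ fun y _ => Ideal.pow_mem_of_mem _ (hgW y x hxW) _ (hpos y)
  · intro z hz hzmem
    obtain ⟨y, hy, hzy⟩ := hmax z hz
    have hmem : ∑ y', g y' ^ (D / e y') ∈ y.asHomogeneousIdeal.toIdeal := hzy hzmem
    rw [← Finset.add_sum_erase _ _ (Finset.mem_univ (⟨y, hy⟩ : {y // y ∈ T'}))] at hmem
    refine hgy ⟨y, hy⟩ (y.isPrime.mem_of_pow_mem _ ((Ideal.add_mem_iff_left _ ?_).1 hmem))
    refine Submodule.sum_mem _ fun w hw => Ideal.pow_mem_of_mem _ (hgz w y hy fun h => ?_) _ (hpos w)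
    exact Finset.ne_of_mem_erase hw (Subtype.ext h.symm)

end GrothLib.LinProj
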