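import Groth.Agent.Lib.ProjSp.Segre

/-!
Linear projections between projective spaces over the integers.
-/

set_option backward.isDefEq.respectTransparency false

universe u

open AlgebraicGeometry CategoryTheory CategoryTheory.Limits HomogeneousLocalization GrothLib.ProjPt
  GrothLib.ProjSpCoord GrothLib.ProjSpSegre

namespace GrothLib.LinProj

variable {N M : ℕ} (l : Fin (M + 1) → MvPolynomial (Fin (N + 1)) RZ.{u})
  (hl : ∀ k, l k ∈ CohB1.polyGrading N RZ.{u} 1)

/-- The locus where some linear form does not vanish. -/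
noncomputable def dom : (Proj (CohB1.polyGrading N RZ.{u})).Opens :=
  ⨆ k, Proj.basicOpen (CohB1.polyGrading N RZ.{u}) (l k)

/-- The chart of `dom` at `k`. -/
noncomputable def D (k : Fin (M + 1)) : (dom l).toScheme.Opens :=
  (dom l).ι ⁻¹ᵁ Proj.basicOpen (CohB1.polyGrading N RZ.{u}) (l k)

theorem isOpenCover_D : TopologicalSpace.IsOpenCover (D l) := by
  refine TopologicalSpace.IsOpenCover.mk (top_le_iff.mp fun x _ => ?_)
  obtain ⟨k, hk⟩ := TopologicalSpace.Opens.mem_iSup.mp x.2
  exact TopologicalSpace.Opens.mem_iSup.mpr ⟨k, hk⟩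

include hl in
theorem exists_chart (k : Fin (M + 1)) :
    ∃ g : Away (CohB1.polyGrading N RZ.{u}) (l k) →+* Γ((D l k).toScheme, ⊤),
      (D l k).ι ≫ (dom l).ι = pt (CohB1.polyGrading N RZ.{u}) (hl k) one_pos g :=
  exists_eq_pt (CohB1.polyGrading N RZ.{u}) (hl k) one_pos _ (top_le_iff.mp fun x _ => x.2)

/-- The chart coordinates. -/
noncomputable def g (k : Fin (M + 1)) :
    Away (CohB1.polyGrading N RZ.{u}) (l k) →+* Γ((D l k).toScheme, ⊤) :=
  (exists_chart l hl k).choose

theorem g_spec (k : Fin (M + 1)) :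
    (D l k).ι ≫ (dom l).ι = pt (CohB1.polyGrading N RZ.{u}) (hl k) one_pos (g l hl k) :=
  (exists_chart l hl k).choose_spec

/-- The fraction `l z / l k`. -/
noncomputable def frac (k z : Fin (M + 1)) : Away (CohB1.polyGrading N RZ.{u}) (l k) :=
  Away.mk (CohB1.polyGrading N RZ.{u}) (hl k) 1 (l z) (by simpa using hl z)

theorem frac_self {S : Type u} [CommRing S] {k : Fin (M + 1)}
    (f : Away (CohB1.polyGrading N RZ.{u}) (l k) →+* S) : f (frac l hl k k) = 1 := by
  have : frac l hl k k = 1 := by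
    apply HomogeneousLocalization.val_injective
    rw [frac, Away.val_mk, HomogeneousLocalization.val_one, Localization.mk_eq_mk',
      IsLocalization.mk'_eq_iff_eq_mul]
    simp
  rw [this, map_one]

theorem frac_change {T : Scheme.{u}} (i j z : Fin (M + 1)) (u : T ⟶ Proj (CohB1.polyGrading N RZ.{u}))
    (a : Away (CohB1.polyGrading N RZ.{u}) (l i) →+* Γ(T, ⊤))
    (b : Away (CohB1.polyGrading N RZ.{u}) (l j) →+* Γ(T, ⊤))
    (ha : u = pt (CohB1.polyGrading N RZ.{u}) (hl i) one_pos a)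
    (hb : u = pt (CohB1.polyGrading N RZ.{u}) (hl j) one_pos b) :
    a (frac l hl i z) = a (frac l hl i j) * b (frac l hl j z) := by
  obtain ⟨h, rfl, rfl⟩ :=
    exists_common_chart (CohB1.polyGrading N RZ.{u}) (hl i) one_pos u (hl j) one_pos a b ha hb
  simp only [RingHom.comp_apply, ← map_mul]
  congr 1
  apply HomogeneousLocalization.val_injective
  rw [HomogeneousLocalization.val_mul]
  simp only [frac, awayMap_mk, Away.val_mk, Localization.mk_mul, pow_one]
  rw [Localization.mk_eq_mk_iff, Localization.r_iff_exists]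
  refine ⟨1, ?_⟩
  simp only [OneMemClass.coe_one, one_mul, Submonoid.coe_mul]
  ring

/-- Coordinates of the projection on a chart. -/
noncomputable def coord (k : Fin (M + 1)) :
    MvPolynomial (Fin (M + 1)) RZ.{u} →+* Γ((D l k).toScheme, ⊤) :=
  evalTuple fun z => g l hl k (frac l hl k z)

theorem coord_self (k : Fin (M + 1)) : IsUnit (coord l hl k (MvPolynomial.X k)) := by
  rw [coord, evalTuple_X, frac_self]
  exact isUnit_one

/-- The projection on a chart. -/
noncomputable def πD (k : Fin (M + 1)) : (D l k).toScheme ⟶ Proj (CohB1.polyGrading M RZ.{u}) :=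
  pt (CohB1.polyGrading M RZ.{u}) (X_mem_one k) one_pos
    (evalAway (CohB1.polyGrading M RZ.{u}) (coord l hl k) _ (coord_self l hl k))

theorem πD_agree {T : Scheme.{u}} (p p' : Fin (M + 1)) (h : T ⟶ (D l p).toScheme) (h' : T ⟶ (D l p').toScheme)
    (hh : h ≫ (D l p).ι = h' ≫ (D l p').ι) : h ≫ πD l hl p = h' ≫ πD l hl p' := by
  have e1 : h ≫ (D l p).ι ≫ (dom l).ι = pt _ (hl p') one_pos (h'.appTop.hom.comp (g l hl p')) := by
    rw [reassoc_of% hh, g_spec l hl, comp_pt]
  have f1 : h ≫ (D l p).ι ≫ (dom l).ι = pt _ (hl p) one_pos (h.appTop.hom.comp (g l hl p)) := by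
    rw [g_spec l hl, comp_pt]
  let F := h.appTop.hom.comp (coord l hl p)
  let F' := h'.appTop.hom.comp (coord l hl p')
  let c := h.appTop.hom (g l hl p (frac l hl p p'))
  have key : ∀ z, F (MvPolynomial.X z) = c * F' (MvPolynomial.X z) := by
    intro z
    have h1 := frac_change l hl p p' z _ _ _ f1 e1
    simp only [RingHom.comp_apply] at h1
    simp only [F, F', c, RingHom.comp_apply, coord, evalTuple_X, h1]
  have hunit : IsUnit c := by
    have h1 := frac_change l hl p p' p _ _ _ f1 e1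
    simp only [RingHom.comp_apply, frac_self, map_one] at h1
    exact IsUnit.of_mul_eq_one _ h1.symm
  have hF' : IsUnit (F' (MvPolynomial.X p')) := (coord_self l hl p').map h'.appTop.hom
  have hF : IsUnit (F (MvPolynomial.X p')) := by rw [key]; exact hunit.mul hF'
  rw [πD, πD, comp_pt, comp_pt, ProjPt.comp_evalAway _ _ _ (X_mem_one _), ProjPt.comp_evalAway _ _ _ (X_mem_one _),
    pt_evalAway_eq (CohB1.polyGrading M RZ.{u}) (X_mem_one _) one_pos F
      ((coord_self l hl p).map h.appTop.hom) (X_mem_one p') one_pos hF]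
  congr 1
  exact evalAway_eq_of_twist _ F' F (X_mem_one _) hF' hF c (map_eq_pow_mul F' F c key)

/-- The linear projection. -/
noncomputable def π : (dom l).toScheme ⟶ Proj (CohB1.polyGrading M RZ.{u}) :=
  ((dom l).toScheme.openCoverOfIsOpenCover (D l) (isOpenCover_D l)).glueMorphisms (fun k => πD l hl k)
    fun p p' => πD_agree l hl p p' _ _ pullback.condition

theorem ι_π (k : Fin (M + 1)) : (D l k).ι ≫ π l hl = πD l hl k :=
  ((dom l).toScheme.openCoverOfIsOpenCover (D l) (isOpenCover_D l)).ι_glueMorphisms _ _ k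

theorem π_preimage (k : Fin (M + 1)) :
    π l hl ⁻¹ᵁ Proj.basicOpen (CohB1.polyGrading M RZ.{u}) (MvPolynomial.X k) = D l k := by
  ext x
  obtain ⟨q, y, rfl⟩ := ((dom l).toScheme.openCoverOfIsOpenCover (D l) (isOpenCover_D l)).exists_eq x
  have h1 : (D l q).ι ⁻¹ᵁ (π l hl ⁻¹ᵁ Proj.basicOpen (CohB1.polyGrading M RZ.{u}) (MvPolynomial.X k)) =
      (D l q).ι ⁻¹ᵁ D l k := by
    change _ = (D l q).ι ⁻¹ᵁ ((dom l).ι ⁻¹ᵁ Proj.basicOpen (CohB1.polyGrading N RZ.{u}) (l k))
    rw [← Scheme.Hom.comp_preimage, ι_π, πD,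
      pt_evalAway_preimage_basicOpen _ (X_mem_one _) one_pos _ _ (X_mem_one _) one_pos,
      ← Scheme.Hom.comp_preimage, g_spec l hl,
      pt_preimage_basicOpen _ (hl q) one_pos _ (hl k) one_pos]
    congr 1
    rw [coord, evalTuple_X, frac]
    congr 1
    apply HomogeneousLocalization.val_injective
    simp [Away.val_mk]
  exact SetLike.ext_iff.mp h1 y

/-- The projection in coordinates. -/
theorem comp_π {T : Scheme.{u}} (v : T ⟶ (dom l).toScheme)
    (F : MvPolynomial (Fin (N + 1)) RZ.{u} →+* Γ(T, ⊤)) (i : Fin (N + 1)) (hFi : IsUnit (F (MvPolynomial.X i)))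
    (k : Fin (M + 1)) (hFk : IsUnit (F (l k)))
    (hv : v ≫ (dom l).ι = pt (CohB1.polyGrading N RZ.{u}) (X_mem_one i) one_pos
      (evalAway (CohB1.polyGrading N RZ.{u}) F _ hFi)) :
    v ≫ π l hl = pt (CohB1.polyGrading M RZ.{u}) (X_mem_one k) one_pos
      (evalAway (CohB1.polyGrading M RZ.{u}) (evalTuple fun z => F (l z)) (MvPolynomial.X k)
        (by rwa [evalTuple_X])) := by
  have hr : Set.range v.base ⊆ Set.range (D l k).ι.base := by
    rw [Scheme.Opens.range_ι]
    rintro _ ⟨y, rfl⟩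
    have h : (v ≫ (dom l).ι) ⁻¹ᵁ Proj.basicOpen (CohB1.polyGrading N RZ.{u}) (l k) = ⊤ := by
      rw [hv, pt_evalAway_preimage_basicOpen _ (X_mem_one _) one_pos _ _ (hl k) one_pos,
        Scheme.basicOpen_of_isUnit T hFk]
    have hy : y ∈ (v ≫ (dom l).ι) ⁻¹ᵁ Proj.basicOpen (CohB1.polyGrading N RZ.{u}) (l k) := by
      rw [h]; trivial
    exact hy
  let w := IsOpenImmersion.lift (D l k).ι v hr
  have hw : w ≫ (D l k).ι = v := IsOpenImmersion.lift_fac _ _ _
  have hg : w.appTop.hom.comp (g l hl k) = evalAway (CohB1.polyGrading N RZ.{u}) F (l k) hFk := by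
    refine pt_injective _ (hl k) one_pos ?_
    rw [← comp_pt, ← g_spec l hl, reassoc_of% hw, hv]
    exact pt_evalAway_eq _ (X_mem_one i) one_pos F hFi (hl k) one_pos hFk
  rw [← hw, Category.assoc, ι_π, πD, comp_pt, ProjPt.comp_evalAway _ _ _ (X_mem_one _)]
  congr 1
  refine (evalAway_eq_of_twist _ _ _ (X_mem_one k) ((coord_self l hl k).map w.appTop.hom)
    (by rwa [evalTuple_X]) (F (l k)) (map_eq_pow_mul _ _ _ fun z => ?_)).symm
  have h2 := congrArg (fun f => f (frac l hl k z)) hg
  simp only [RingHom.comp_apply] at h2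
  simp only [RingHom.comp_apply, coord, evalTuple_X, h2]
  have h3 := evalAway_mk_spec (CohB1.polyGrading N RZ.{u}) F (hl k) hFk 1 (l z) (by simpa using hl z)
  rw [pow_one] at h3
  rw [mul_comm]
  exact h3.symm

end GrothLib.LinProj
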