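import Groth.Agent.Lib.LinProj.Basic
import Mathlib.AlgebraicGeometry.Morphisms.Finite
import Mathlib.AlgebraicGeometry.Morphisms.Integral
import Mathlib.AlgebraicGeometry.ProjectiveSpectrum.Proper
import Mathlib.RingTheory.MvPolynomial.Symmetric.FundamentalTheorem
import Mathlib.RingTheory.Polynomial.Vieta
import Mathlib.AlgebraicGeometry.Properties

/-!
Multiplication of binary forms `P^n × P^1 ⟶ P^{n+1}`.
-/

set_option backward.isDefEq.respectTransparency false

universe u

open AlgebraicGeometry CategoryTheory CategoryTheory.Limits HomogeneousLocalization GrothLib.ProjPt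
  GrothLib.ProjSpCoord

namespace GrothLib.LinProj

open GrothLib.ProjSpSegre (Q q₁ q₂ W idx coordHom coordHom_X φ φW ι_φ isClosedImmersion_φ)

variable (n : ℕ)

/-- The coefficients of the product of a degree `n` form and a linear form, as linear forms in the
Segre coordinates. -/
noncomputable def prodForm (k : Fin (n + 2)) : MvPolynomial (Fin (n * 1 + n + 1 + 1)) RZ.{u} :=
  ∑ p : Fin (n + 1) × Fin 2, if (p.1 : ℕ) + p.2 = k then MvPolynomial.X (idx n 1 p) else 0

theorem prodForm_mem (k : Fin (n + 2)) : prodForm.{u} n k ∈ CohB1.polyGrading (n * 1 + n + 1) RZ.{u} 1 := by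
  refine Submodule.sum_mem _ fun p _ => ?_
  split_ifs
  · exact X_mem_one _
  · exact Submodule.zero_mem _

open Polynomial in
theorem eval_prodForm {S : Type u} [CommRing S] (a : Fin (n + 1) → S) (b : Fin 2 → S)
    (F : MvPolynomial (Fin (n * 1 + n + 1 + 1)) RZ.{u} →+* S)
    (hF : ∀ p, F (MvPolynomial.X (idx n 1 p)) = a p.1 * b p.2) (k : Fin (n + 2)) :
    F (prodForm n k) = ((∑ i, C (a i) * X ^ (i : ℕ)) * ∑ j, C (b j) * X ^ (j : ℕ)).coeff k := by
  rw [Finset.sum_mul_sum, prodForm, map_sum, Polynomial.finsetSum_coeff, Fintype.sum_prod_type]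
  simp only [Polynomial.finsetSum_coeff]
  refine Finset.sum_congr rfl fun i _ => Finset.sum_congr rfl fun j _ => ?_
  rw [show C (a i) * X ^ (i : ℕ) * (C (b j) * X ^ (j : ℕ)) = C (a i * b j) * X ^ ((i : ℕ) + j) by
    rw [C_mul, pow_add]; ring, coeff_C_mul, coeff_X_pow]
  rcases eq_or_ne ((i : ℕ) + j) k with h | h
  · rw [if_pos h, if_pos h.symm, hF, mul_one]
  · rw [if_neg h, if_neg (Ne.symm h), map_zero, mul_zero]

theorem coord_W (p q : Fin (n + 1) × Fin 2) :
    coordHom.{u} n 1 p (MvPolynomial.X (idx n 1 q)) =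
      ProjSpSegre.g₁ n 1 p (ratio p.1 q.1) * ProjSpSegre.g₂ n 1 p (ratio p.2 q.2) :=
  coordHom_X n 1 p q

open Polynomial in
/-- The Segre image lies in the domain of the projection. -/
theorem φ_mem_dom (x : Q.{u} n 1) : (φ n 1).base x ∈ dom (prodForm.{u} n) := by
  obtain ⟨p, hp⟩ := TopologicalSpace.Opens.mem_iSup.mp
    ((ProjSpSegre.isOpenCover_W.{u} n 1).iSup_eq_top.ge (Set.mem_univ x))
  let y : (W.{u} n 1 p).toScheme := ⟨x, hp⟩
  let ev := (W.{u} n 1 p).toScheme.Γevaluation y
  let a : Fin (n + 1) → (W.{u} n 1 p).toScheme.residueField y :=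
    fun i => ev.hom (ProjSpSegre.g₁ n 1 p (ratio p.1 i))
  let b : Fin 2 → (W.{u} n 1 p).toScheme.residueField y :=
    fun j => ev.hom (ProjSpSegre.g₂ n 1 p (ratio p.2 j))
  by_contra hne
  have h0 : ∀ k, ev.hom (coordHom n 1 p (prodForm n k)) = 0 := by
    intro k
    by_contra hk
    refine hne (TopologicalSpace.Opens.mem_iSup.mpr ⟨k, ?_⟩)
    have h1 : ((W.{u} n 1 p).ι ≫ φ n 1) ⁻¹ᵁ Proj.basicOpen (CohB1.polyGrading (n * 1 + n + 1) RZ.{u}) (prodForm n k) =
        (W.{u} n 1 p).toScheme.basicOpen (coordHom n 1 p (prodForm n k)) := by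
      rw [ι_φ, φW, pt_evalAway_preimage_basicOpen _ (X_mem_one _) one_pos _ _ (prodForm_mem n k) one_pos]
    have h2 : y ∈ (W.{u} n 1 p).toScheme.basicOpen (coordHom n 1 p (prodForm n k)) :=
      (Scheme.evaluation_ne_zero_iff_mem_basicOpen _ y (TopologicalSpace.Opens.mem_top _) _).mp hk
    rw [← h1] at h2
    exact h2
  have hmul : (∑ i, C (a i) * X ^ (i : ℕ)) * ∑ j, C (b j) * X ^ (j : ℕ) = 0 := by
    refine Polynomial.ext fun m => ?_
    rw [coeff_zero]
    rcases lt_or_ge m (n + 2) with hm | hm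
    · rw [← h0 ⟨m, hm⟩]
      exact (eval_prodForm n a b (ev.hom.comp (coordHom n 1 p)) (fun q => by
        simp only [RingHom.comp_apply, coord_W, map_mul, a, b]) ⟨m, hm⟩).symm
    · refine coeff_eq_zero_of_natDegree_lt (lt_of_lt_of_le ?_ hm)
      refine lt_of_le_of_lt natDegree_mul_le (Nat.lt_succ_of_le (Nat.add_le_add (b := n) (d := 1) ?_ ?_))
      · exact natDegree_sum_le_of_forall_le _ _ fun i _ => (natDegree_C_mul_X_pow_le _ _).trans (Nat.lt_succ_iff.1 i.2)
      · exact natDegree_sum_le_of_forall_le _ _ fun j _ => (natDegree_C_mul_X_pow_le _ _).trans (Nat.lt_succ_iff.1 j.2)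
  have hone : ∀ {m : ℕ} (c : Fin m → (W.{u} n 1 p).toScheme.residueField y) (i : Fin m), c i = 1 →
      (∑ j, C (c j) * X ^ (j : ℕ)) ≠ 0 := fun c i hi h => by
    have h1 := congrArg (fun P => coeff P i) h
    simp only [finsetSum_coeff, coeff_C_mul, coeff_X_pow, coeff_zero, mul_ite, mul_one, mul_zero] at h1
    rw [Finset.sum_eq_single i (fun j _ hj => if_neg fun e => hj (Fin.ext e.symm)) (fun h => absurd (Finset.mem_univ i) h),
      if_pos rfl, hi] at h1
    exact one_ne_zero h1
  rcases mul_eq_zero.1 hmul with h | h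
  · exact hone a p.1 (by simp only [a, ratio_self_map, map_one]) h
  · exact hone b p.2 (by simp only [b, ratio_self_map, map_one]) h

theorem φ_preimage_dom : φ.{u} n 1 ⁻¹ᵁ dom (prodForm n) = ⊤ :=
  top_le_iff.mp fun x _ => φ_mem_dom n x

/-- The Segre map into the domain of the projection. -/
noncomputable def toDom : Q.{u} n 1 ⟶ (dom (prodForm.{u} n)).toScheme :=
  IsOpenImmersion.lift (dom (prodForm.{u} n)).ι (φ n 1) (by
    rw [Scheme.Opens.range_ι]
    rintro _ ⟨y, rfl⟩
    exact φ_mem_dom n y)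

theorem toDom_ι : toDom.{u} n ≫ (dom (prodForm.{u} n)).ι = φ n 1 := IsOpenImmersion.lift_fac _ _ _

/-- Multiplication of binary forms over the integers. -/
noncomputable def mul : Q.{u} n 1 ⟶ Proj (CohB1.polyGrading (n + 1) RZ.{u}) :=
  toDom n ≫ π (prodForm n) (prodForm_mem n)

theorem isAffineHom_mul : IsAffineHom (mul.{u} n) := by
  refine isAffineHom_of_forall_exists_isAffineOpen (mul.{u} n) fun x => ?_
  obtain ⟨k, hk⟩ := TopologicalSpace.Opens.mem_iSup.mp
    ((ProjSpSegre.iSup_basicOpen_X.{u} (n + 1)).ge (Set.mem_univ x))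
  refine ⟨_, hk, Proj.isAffineOpen_basicOpen _ _ (X_mem_one k) one_pos, ?_⟩
  have h : mul.{u} n ⁻¹ᵁ Proj.basicOpen (CohB1.polyGrading (n + 1) RZ.{u}) (MvPolynomial.X k) =
      φ n 1 ⁻¹ᵁ Proj.basicOpen (CohB1.polyGrading (n * 1 + n + 1) RZ.{u}) (prodForm n k) := by
    rw [mul, Scheme.Hom.comp_preimage, π_preimage, D, ← Scheme.Hom.comp_preimage, toDom_ι]
  rw [h]
  have := isClosedImmersion_φ.{u} n 1
  exact (Proj.isAffineOpen_basicOpen _ _ (prodForm_mem n k) one_pos).preimage (φ n 1)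

theorem isProper_toSpec (m : ℕ) : IsProper (CohB1.ProjSpace.toSpec m RZ.{u}) := by
  have hsurj : Function.Surjective (algebraMap RZ.{u} (CohB1.polyGrading m RZ.{u} 0)) := by
    rintro ⟨p, hp⟩
    obtain ⟨r, rfl⟩ : ∃ r, p = MvPolynomial.C r :=
      ⟨p.coeff 0, (MvPolynomial.totalDegree_eq_zero_iff_eq_C).1 (Nat.le_zero.1 (MvPolynomial.IsHomogeneous.totalDegree_le hp))⟩
    exact ⟨r, rfl⟩
  have : IsClosedImmersion (Spec.map (CommRingCat.ofHom (algebraMap RZ.{u} (CohB1.polyGrading m RZ.{u} 0)))) :=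
    IsClosedImmersion.spec_of_surjective _ hsurj
  have : Algebra.FiniteType (CohB1.polyGrading m RZ.{u} 0) (MvPolynomial (Fin (m + 1)) RZ.{u}) := by
    rw [← RingHom.finiteType_algebraMap]
    refine RingHom.FiniteType.of_comp_finiteType (f := algebraMap RZ.{u} (CohB1.polyGrading m RZ.{u} 0)) ?_
    exact RingHom.finiteType_algebraMap.mpr (inferInstanceAs (Algebra.FiniteType RZ.{u} (MvPolynomial (Fin (m + 1)) RZ.{u})))
  unfold CohB1.ProjSpace.toSpec
  infer_instance

theorem isFinite_mul : IsFinite (mul.{u} n) := by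
  have := isAffineHom_mul.{u} n
  have h1 := isProper_toSpec.{u} n
  have h2 := isProper_toSpec.{u} 1
  have h3 := isProper_toSpec.{u} (n + 1)
  have hq : IsProper (q₁.{u} n 1) :=
    MorphismProperty.pullback_fst (CohB1.ProjSpace.toSpec n RZ.{u}) (CohB1.ProjSpace.toSpec 1 RZ.{u}) h2
  have hQ : IsProper (q₁.{u} n 1 ≫ CohB1.ProjSpace.toSpec n RZ.{u}) := inferInstance
  have hp : IsProper (mul.{u} n ≫ CohB1.ProjSpace.toSpec (n + 1) RZ.{u}) := by
    rw [specULiftZIsTerminal.hom_ext (mul n ≫ CohB1.ProjSpace.toSpec (n + 1) RZ.{u})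
      (q₁.{u} n 1 ≫ CohB1.ProjSpace.toSpec n RZ.{u})]
    exact hQ
  have : IsProper (mul.{u} n) := IsProper.of_comp (mul n) (CohB1.ProjSpace.toSpec (n + 1) RZ.{u})
  rw [IsFinite.iff_isIntegralHom_and_locallyOfFiniteType]
  exact ⟨IsIntegralHom.iff_universallyClosed_and_isAffineHom.2 ⟨inferInstance, inferInstance⟩, inferInstance⟩

/-- The coefficient ring of a split form. -/
abbrev R : Type u := MvPolynomial (Fin (n + 1)) RZ.{u}

open Polynomial in
theorem mul_eq_of_split :
    ∃ (u : Spec (CommRingCat.of (R.{u} n)) ⟶ Q.{u} n 1)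
      (g : Away (CohB1.polyGrading (n + 1) RZ.{u}) (MvPolynomial.X (Fin.last (n + 1))) →+* R.{u} n),
      u ≫ mul n = Spec.map (CommRingCat.ofHom g) ≫
          Proj.awayι (CohB1.polyGrading (n + 1) RZ.{u}) (MvPolynomial.X (Fin.last (n + 1))) (X_mem_one _) one_pos ∧
      Function.Injective g := by
  let T := Spec (CommRingCat.of (R.{u} n))
  let ι : R.{u} n →+* Γ(T, ⊤) := (Scheme.ΓSpecIso (CommRingCat.of (R n))).inv.hom
  let Pn : Polynomial (R.{u} n) := ∏ i : Fin n, (Polynomial.X + C (MvPolynomial.X i.castSucc))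
  let a : Fin (n + 1) → Γ(T, ⊤) := fun i => ι (Pn.coeff i)
  let b : Fin 2 → Γ(T, ⊤) := ![ι (MvPolynomial.X (Fin.last n)), 1]
  have hPdeg : Pn.natDegree = n := by
    rw [natDegree_prod_of_monic _ _ fun i _ => monic_X_add_C _]
    simp
  have hPmon : Pn.Monic := monic_prod_of_monic _ _ fun i _ => monic_X_add_C _
  have han : a (Fin.last n) = 1 := by
    show ι (Pn.coeff (Fin.last n : ℕ)) = 1
    rw [Fin.val_last]
    conv_lhs => arg 2; arg 2; rw [← hPdeg]
    rw [hPmon.coeff_natDegree, map_one]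
  have hfa : IsUnit (evalTuple a (MvPolynomial.X (Fin.last n))) := by rw [evalTuple_X, han]; exact isUnit_one
  have hfb : IsUnit (evalTuple b (MvPolynomial.X (1 : Fin 2))) := by rw [evalTuple_X]; exact isUnit_one
  let u : T ⟶ Q.{u} n 1 := pullback.lift
    (pt _ (X_mem_one (Fin.last n)) one_pos (evalAway (CohB1.polyGrading n RZ.{u}) (evalTuple a) _ hfa))
    (pt _ (X_mem_one (1 : Fin 2)) one_pos (evalAway (CohB1.polyGrading 1 RZ.{u}) (evalTuple b) _ hfb))
    (specULiftZIsTerminal.hom_ext _ _)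
  let p₀ : Fin (n + 1) × Fin 2 := (Fin.last n, 1)
  have hr : Set.range u.base ⊆ Set.range (W.{u} n 1 p₀).ι.base := by
    rw [Scheme.Opens.range_ι]
    rintro _ ⟨y, rfl⟩
    have h : u ⁻¹ᵁ W n 1 p₀ = ⊤ := by
      rw [W, Scheme.Hom.preimage_inf, ← Scheme.Hom.comp_preimage, ← Scheme.Hom.comp_preimage,
        pullback.lift_fst, pullback.lift_snd, pt_preimage_self, pt_preimage_self]
      exact inf_of_le_left le_rfl
    have hy : y ∈ u ⁻¹ᵁ W n 1 p₀ := by rw [h]; trivial
    exact hy
  let u' := IsOpenImmersion.lift (W.{u} n 1 p₀).ι u hr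
  have hu' : u' ≫ (W.{u} n 1 p₀).ι = u := IsOpenImmersion.lift_fac _ _ _
  have hg₁ : u'.appTop.hom.comp (ProjSpSegre.g₁ n 1 p₀) = evalAway (CohB1.polyGrading n RZ.{u}) (evalTuple a) _ hfa := by
    refine pt_injective _ (X_mem_one (Fin.last n)) one_pos ?_
    rw [← comp_pt, ← ProjSpSegre.g₁_spec, reassoc_of% hu', pullback.lift_fst]
  have hg₂ : u'.appTop.hom.comp (ProjSpSegre.g₂ n 1 p₀) = evalAway (CohB1.polyGrading 1 RZ.{u}) (evalTuple b) _ hfb := by
    refine pt_injective _ (X_mem_one (1 : Fin 2)) one_pos ?_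
    rw [← comp_pt, ← ProjSpSegre.g₂_spec, reassoc_of% hu', pullback.lift_snd]
  let F := u'.appTop.hom.comp (coordHom n 1 p₀)
  have ha' : ∀ i, u'.appTop.hom (ProjSpSegre.g₁ n 1 p₀ (ratio (Fin.last n) i)) = a i := fun i => by
    have h := evalAway_ratio (evalTuple a) (Fin.last n) i hfa
    rw [evalTuple_X, evalTuple_X, han, mul_one, ← hg₁] at h
    exact h
  have hb' : ∀ j, u'.appTop.hom (ProjSpSegre.g₂ n 1 p₀ (ratio 1 j)) = b j := fun j => by
    have h := evalAway_ratio (evalTuple b) (1 : Fin 2) j hfb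
    rw [evalTuple_X, evalTuple_X, show b 1 = 1 from rfl, mul_one, ← hg₂] at h
    exact h
  have hprod : ∀ k, F (prodForm n k) =
      ι ((∏ i : Fin (n + 1), (Polynomial.X + C (MvPolynomial.X i : R.{u} n))).coeff k) := by
    intro k
    rw [eval_prodForm n a b F (fun q => by simp only [F, RingHom.comp_apply, coord_W, map_mul, p₀, ha', hb']) k,
      Fin.prod_univ_castSucc, ← coeff_map, Polynomial.map_mul]
    congr 2
    · show _ = Polynomial.map ι Pn
      conv_rhs => rw [Pn.as_sum_range' (n + 1) (by rw [hPdeg]; exact Nat.lt_succ_self n)]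
      rw [Polynomial.map_sum, ← Fin.sum_univ_eq_sum_range]
      simp only [← C_mul_X_pow_eq_monomial, Polynomial.map_mul, Polynomial.map_pow, Polynomial.map_C, Polynomial.map_X, a]
    · simp [Fin.sum_univ_two, b, add_comm]
  have hlast : F (prodForm n (Fin.last (n + 1))) = 1 := by
    rw [hprod]
    have hmon : (∏ i : Fin (n + 1), (Polynomial.X + C (MvPolynomial.X i : R.{u} n))).Monic :=
      monic_prod_of_monic _ _ fun i _ => monic_X_add_C _
    have hdeg : (∏ i : Fin (n + 1), (Polynomial.X + C (MvPolynomial.X i : R.{u} n))).natDegree = n + 1 := by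
      rw [natDegree_prod_of_monic _ _ fun i _ => monic_X_add_C _]
      simp
    rw [show ((Fin.last (n + 1) : Fin (n + 2)) : ℕ) = _ from hdeg.symm, hmon.coeff_natDegree, map_one]
  have hv : (u ≫ toDom n) ≫ (dom (prodForm.{u} n)).ι =
      pt (CohB1.polyGrading (n * 1 + n + 1) RZ.{u}) (X_mem_one (idx n 1 p₀)) one_pos
        (evalAway _ F _ ((ProjSpSegre.coordHom_self n 1 p₀).map u'.appTop.hom)) := by
    rw [Category.assoc, toDom_ι, ← hu', Category.assoc, ι_φ, φW, comp_pt,
      ProjSpSegre.comp_evalAway _ _ _ (X_mem_one _)]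
  have hFl : IsUnit (F (prodForm n (Fin.last (n + 1)))) := by rw [hlast]; exact isUnit_one
  have key := comp_π (prodForm n) (prodForm_mem n) (u ≫ toDom n) F _ _ (Fin.last (n + 1)) hFl hv
  let z : Fin (n + 2) → R.{u} n :=
    fun k => (∏ i : Fin (n + 1), (Polynomial.X + C (MvPolynomial.X i : R.{u} n))).coeff k
  have hz : IsUnit (evalTuple z (MvPolynomial.X (Fin.last (n + 1)))) := by
    rw [evalTuple_X]
    have := hFl
    rw [hprod] at this
    have h2 := this.map (Scheme.ΓSpecIso (CommRingCat.of (R.{u} n))).hom.hom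
    rwa [← RingHom.comp_apply, ← CommRingCat.hom_comp, Iso.inv_hom_id, CommRingCat.hom_id, RingHom.id_apply] at h2
  refine ⟨u, evalAway (CohB1.polyGrading (n + 1) RZ.{u}) (evalTuple z) _ hz, ?_, ?_⟩
  · rw [mul, ← Category.assoc, key]
    have e : evalAway (CohB1.polyGrading (n + 1) RZ.{u}) (evalTuple fun k => F (prodForm n k))
        (MvPolynomial.X (Fin.last (n + 1))) (by rwa [evalTuple_X]) =
        ι.comp (evalAway (CohB1.polyGrading (n + 1) RZ.{u}) (evalTuple z) _ hz) := by
      rw [ProjSpSegre.comp_evalAway _ _ _ (X_mem_one _)]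
      refine evalAway_eq_of_twist _ _ _ (X_mem_one _) _ _ 1 (map_eq_pow_mul _ _ _ fun k => ?_)
      rw [one_mul, RingHom.comp_apply, evalTuple_X, evalTuple_X, hprod]
    rw [pt, e, CommRingCat.ofHom_comp, Spec.map_comp, Category.assoc, ← Category.assoc]
    have e2 : T.toSpecΓ ≫ Spec.map (CommRingCat.ofHom ι) = 𝟙 T :=
      toSpecΓ_SpecMap_ΓSpecIso_inv (CommRingCat.of (R.{u} n))
    rw [e2, Category.id_comp]
  · let η : MvPolynomial (Fin (n + 1)) RZ.{u} →+* Away (CohB1.polyGrading (n + 1) RZ.{u}) (MvPolynomial.X (Fin.last (n + 1))) :=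
      MvPolynomial.eval₂Hom fromRZ fun j => ratio (Fin.last (n + 1)) j.rev.castSucc
    have hη : Function.Surjective η := fun w => by
      have h := RingHom.congr_fun (eq_evalAway (RingHom.id (Away (CohB1.polyGrading (n + 1) RZ.{u}) (MvPolynomial.X (Fin.last (n + 1)))))) w
      obtain ⟨m, c, hc, rfl⟩ := Away.mk_surjective _ (X_mem_one (Fin.last (n + 1))) w
      have h2 := evalAway_mk_spec (CohB1.polyGrading (n + 1) RZ.{u})
        (evalTuple fun k => (RingHom.id _) (ratio (Fin.last (n + 1)) k)) (X_mem_one (Fin.last (n + 1)))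
        (by rw [evalTuple_X, ratio_self_map]; exact isUnit_one) m c hc
      have hone := ratio_self_map (RingHom.id (Away (CohB1.polyGrading (n + 1) RZ.{u}) (MvPolynomial.X (Fin.last (n + 1)))))
      rw [← h, RingHom.id_apply] at h2
      rw [evalTuple_X] at h2
      rw [hone, one_pow, mul_one] at h2
      rw [h2]
      refine ⟨MvPolynomial.eval₂Hom fromRZ (Fin.lastCases 1 fun j => MvPolynomial.X j.rev) c, ?_⟩
      rw [← RingHom.comp_apply]
      refine RingHom.congr_fun (MvPolynomial.ringHom_ext (fun r => ?_) fun k => ?_) c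
      · exact RingHom.congr_fun (ringHom_RZ_ext ((η.comp _).comp MvPolynomial.C) ((evalTuple _).comp MvPolynomial.C)) r
      · rw [RingHom.comp_apply, MvPolynomial.eval₂Hom_X', evalTuple_X, RingHom.id_apply]
        induction k using Fin.lastCases with
        | last => rw [Fin.lastCases_last, map_one]; exact (ratio_self_map (RingHom.id _)).symm
        | cast j => rw [Fin.lastCases_castSucc]; simp [η]
    have hcomp : ∀ p, evalAway (CohB1.polyGrading (n + 1) RZ.{u}) (evalTuple z) _ hz (η p) =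
        (MvPolynomial.esymmAlgHom (Fin (n + 1)) RZ.{u} (n + 1) p).val := by
      intro p
      rw [MvPolynomial.esymmAlgHom_apply]
      refine RingHom.congr_fun (MvPolynomial.ringHom_ext
        (f := (evalAway (CohB1.polyGrading (n + 1) RZ.{u}) (evalTuple z) _ hz).comp η)
        (g := (MvPolynomial.aeval fun i : Fin (n + 1) => MvPolynomial.esymm (Fin (n + 1)) RZ.{u} (i + 1)).toRingHom)
        (fun r => ?_) fun j => ?_) p
      · exact RingHom.congr_fun (ringHom_RZ_ext (((evalAway (CohB1.polyGrading (n + 1) RZ.{u}) (evalTuple z) _ hz).comp η).comp MvPolynomial.C)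
          ((MvPolynomial.aeval fun i : Fin (n + 1) => MvPolynomial.esymm (Fin (n + 1)) RZ.{u} (i + 1)).toRingHom.comp MvPolynomial.C)) r
      · simp only [RingHom.comp_apply, η, MvPolynomial.eval₂Hom_X', AlgHom.toRingHom_eq_coe, RingHom.coe_coe,
          MvPolynomial.aeval_X]
        have h := evalAway_ratio (evalTuple z) (Fin.last (n + 1)) j.rev.castSucc hz
        rw [evalTuple_X, evalTuple_X] at h
        have hz1 : z (Fin.last (n + 1)) = 1 := by
          have hmon : (∏ i : Fin (n + 1), (Polynomial.X + C (MvPolynomial.X i : R.{u} n))).Monic :=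
            monic_prod_of_monic _ _ fun i _ => monic_X_add_C _
          have hdeg : (∏ i : Fin (n + 1), (Polynomial.X + C (MvPolynomial.X i : R.{u} n))).natDegree = n + 1 := by
            rw [natDegree_prod_of_monic _ _ fun i _ => monic_X_add_C _]
            simp
          simp only [z, Fin.val_last]
          conv_lhs => arg 2; rw [← hdeg]
          exact hmon.coeff_natDegree
        rw [hz1, mul_one] at h
        rw [h]
        simp only [z, Fin.val_castSucc, Fin.val_rev]
        rw [Finset.prod_X_add_C_coeff _ _ (by rw [Finset.card_fin]; omega), Finset.card_fin, MvPolynomial.esymm]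
        rw [show n + 1 - (n + 1 - (↑j + 1)) = (j : ℕ) + 1 by omega]
    intro w w' hw
    obtain ⟨p, rfl⟩ := hη w
    obtain ⟨p', rfl⟩ := hη w'
    rw [hcomp, hcomp] at hw
    rw [MvPolynomial.esymmAlgHom_fin_injective RZ.{u} le_rfl (Subtype.ext hw)]

theorem isDomain_RZ : IsDomain RZ.{u} := MulEquiv.isDomain ℤ (ULift.ringEquiv : RZ.{u} ≃+* ℤ).toMulEquiv

attribute [local instance] isDomain_RZ

theorem isIntegral_projSpace (m : ℕ) : IrreducibleSpace (Proj (CohB1.polyGrading m RZ.{u}) : Scheme.{u}) := by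
  let B : Ideal (MvPolynomial (Fin (m + 1)) RZ.{u}) := ⊥
  have : B.IsPrime := Ideal.isPrime_bot
  let x : Proj (CohB1.polyGrading m RZ.{u}) := (⟨⟨B, Ideal.IsHomogeneous.bot _⟩, ‹_›, fun h => by
    have h1 := h (HomogeneousIdeal.mem_irrelevant_of_mem (CohB1.polyGrading m RZ.{u}) one_pos (X_mem_one (0 : Fin (m + 1))))
    exact MvPolynomial.X_ne_zero _ (Ideal.mem_bot.1 h1)⟩ : ProjectiveSpectrum (CohB1.polyGrading m RZ.{u}))
  have hx : closure ({x} : Set (Proj (CohB1.polyGrading m RZ.{u}) : Scheme.{u})) = Set.univ := Set.eq_univ_of_forall fun y =>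
    (ProjectiveSpectrum.le_iff_mem_closure _ x y).1 (bot_le : (⊥ : Ideal _) ≤ y.asHomogeneousIdeal.toIdeal)
  have h := (isIrreducible_singleton (x := x)).closure
  rw [hx] at h
  exact { isPreirreducible_univ := h.2, toNonempty := ⟨x⟩ }

theorem surjective_mul : Surjective (mul.{u} n) := by
  have := isFinite_mul.{u} n
  have := isIntegral_projSpace.{u} (n + 1)
  obtain ⟨u, g, hu, hg⟩ := mul_eq_of_split.{u} n
  refine ⟨Set.range_eq_univ.1 (Set.univ_subset_iff.1 ?_)⟩
  have hcl : IsClosed (Set.range (mul.{u} n)) := (mul.{u} n).isClosedMap.isClosed_range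
  rw [← hcl.closure_eq]
  let a := Proj.awayι (CohB1.polyGrading (n + 1) RZ.{u}) (MvPolynomial.X (Fin.last (n + 1))) (X_mem_one _) one_pos
  have h1 : Set.range (u ≫ mul n) ⊆ Set.range (mul.{u} n) := by
    rintro _ ⟨t, rfl⟩
    exact ⟨u t, rfl⟩
  refine le_trans ?_ (closure_mono h1)
  have hd : DenseRange (Spec.map (CommRingCat.ofHom g)) := by
    refine (PrimeSpectrum.denseRange_comap_iff_ker_le_nilRadical _).2 ?_
    intro w hw
    have : g w = g 0 := by rw [map_zero]; exact hw
    rw [hg this]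
    exact zero_mem _
  have h2 : Set.range a ⊆ closure (Set.range (u ≫ mul n)) := by
    rintro _ ⟨w, rfl⟩
    have hw : a w ∈ closure (a '' Set.range (Spec.map (CommRingCat.ofHom g))) :=
      map_mem_closure a.continuous (hd w) (fun _ hz => Set.mem_image_of_mem _ hz)
    rwa [hu, Scheme.Hom.comp_base, TopCat.coe_comp, Set.range_comp]
  have h3 : Dense (Set.range a) := a.isOpenEmbedding.isOpen_range.dense (by
    refine ⟨a (Spec.map (CommRingCat.ofHom g) (genericPoint _)), ?_⟩
    exact Set.mem_range_self _)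
  exact fun x _ => closure_minimal h2 isClosed_closure (h3 x)

end GrothLib.LinProj
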