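import Groth.Agent.Lib.LinProj.Mul
import Groth.Agent.Lib.ProjSp.Section
import Mathlib.CategoryTheory.Limits.Shapes.WidePullbacks
import Mathlib.AlgebraicGeometry.PullbackCarrier

/-!
A finite surjective morphism `(P^1_S)^n ⟶ P^n_S`.
-/

set_option backward.isDefEq.respectTransparency false

universe u

open AlgebraicGeometry CategoryTheory CategoryTheory.Limits GrothLib.ProjSpCoord

namespace GrothLib.LinProj

open GrothLib.ProjSpSegre (Q q₁ q₂)

theorem exists_mulOver (n : ℕ) (S : Scheme.{u}) :
    ∃ φS : pullback (CohB1.ProjSpaceOver.toBase n S) (CohB1.ProjSpaceOver.toBase 1 S) ⟶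
        CohB1.ProjSpaceOver (n + 1) S,
      IsFinite φS ∧ Surjective φS ∧ φS ≫ CohB1.ProjSpaceOver.toBase (n + 1) S =
        pullback.fst (CohB1.ProjSpaceOver.toBase n S) (CohB1.ProjSpaceOver.toBase 1 S) ≫
          CohB1.ProjSpaceOver.toBase n S := by
  let t := specULiftZIsTerminal.from S
  let QS := pullback (CohB1.ProjSpaceOver.toBase n S) (CohB1.ProjSpaceOver.toBase 1 S)
  let toQ : QS ⟶ Q.{u} n 1 := pullback.lift (pullback.fst _ _ ≫ pullback.fst _ _)
    (pullback.snd _ _ ≫ pullback.fst _ _) (specULiftZIsTerminal.hom_ext _ _)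
  let base : QS ⟶ S := pullback.fst _ _ ≫ CohB1.ProjSpaceOver.toBase n S
  let qQ : Q.{u} n 1 ⟶ Spec (CommRingCat.of RZ.{u}) := pullback.fst _ _ ≫ CohB1.ProjSpace.toSpec n RZ.{u}
  let e : QS ≅ pullback qQ t :=
    { hom := pullback.lift toQ base (specULiftZIsTerminal.hom_ext _ _)
      inv := pullback.lift
        (pullback.lift (pullback.fst qQ t ≫ q₁ n 1) (pullback.snd qQ t) (specULiftZIsTerminal.hom_ext _ _))
        (pullback.lift (pullback.fst qQ t ≫ q₂ n 1) (pullback.snd qQ t) (specULiftZIsTerminal.hom_ext _ _))
        (by simp [CohB1.ProjSpaceOver.toBase])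
      hom_inv_id := by
        apply pullback.hom_ext <;> apply pullback.hom_ext
        · simp [toQ, q₁, CohB1.ProjSpaceOver.toBase]
        · simp [base, CohB1.ProjSpaceOver.toBase]
        · simp [toQ, q₂, CohB1.ProjSpaceOver.toBase]
        · simp only [Category.assoc, pullback.lift_snd, Category.id_comp]
          exact pullback.condition (f := CohB1.ProjSpaceOver.toBase n S)
            (g := CohB1.ProjSpaceOver.toBase 1 S)
      inv_hom_id := by
        apply pullback.hom_ext
        · apply pullback.hom_ext
          · simp [toQ, q₁, CohB1.ProjSpaceOver.toBase]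
          · simp [toQ, q₂, CohB1.ProjSpaceOver.toBase]
        · simp [base, CohB1.ProjSpaceOver.toBase] }
  let M : pullback qQ t ⟶ CohB1.ProjSpaceOver (n + 1) S :=
    pullback.map qQ t (CohB1.ProjSpace.toSpec (n + 1) RZ.{u}) t (mul n) (𝟙 S) (𝟙 _)
      (specULiftZIsTerminal.hom_ext _ _) (by simp)
  have hM : IsFinite M :=
    MorphismProperty.pullbackMap (P := @IsFinite) (isFinite_mul n)
      (inferInstanceAs (IsFinite (𝟙 S))) (specULiftZIsTerminal.hom_ext _ _) (Category.id_comp _).symm
  have hM' : Surjective M :=
    MorphismProperty.pullbackMap (P := @Surjective) (surjective_mul n)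
      (inferInstanceAs (Surjective (𝟙 S))) (specULiftZIsTerminal.hom_ext _ _) (Category.id_comp _).symm
  haveI : IsIso e.hom := Iso.isIso_hom e
  refine ⟨e.hom ≫ M, (MorphismProperty.cancel_left_of_respectsIso @IsFinite e.hom M).mpr hM,
    (MorphismProperty.cancel_left_of_respectsIso @Surjective e.hom M).mpr hM', ?_⟩
  simp [M, e, base, CohB1.ProjSpaceOver.toBase, t]

theorem exists_P1Pow (S : Scheme.{u}) (n : ℕ) :
    ∃ φ : widePullback S (fun _ : Fin n => CohB1.ProjSpaceOver 1 S) (fun _ => CohB1.ProjSpaceOver.toBase 1 S) ⟶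
        CohB1.ProjSpaceOver n S,
      IsFinite φ ∧ Surjective φ ∧
        φ ≫ CohB1.ProjSpaceOver.toBase n S = WidePullback.base (fun _ => CohB1.ProjSpaceOver.toBase 1 S) := by
  induction n with
  | zero =>
    have := GrothLib.ProjSp.isIso_toSpec_zero RZ.{u}
    have h0 : IsIso (CohB1.ProjSpaceOver.toBase 0 S) := by
      unfold CohB1.ProjSpaceOver.toBase
      infer_instance
    let b := WidePullback.base (fun _ : Fin 0 => CohB1.ProjSpaceOver.toBase 1 S)
    have hb : IsIso b := ⟨WidePullback.lift (𝟙 S) (fun i => i.elim0) (fun i => i.elim0), by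
      refine WidePullback.hom_ext _ _ _ (fun i => i.elim0) ?_
      rw [Category.assoc, WidePullback.lift_base, Category.comp_id, Category.id_comp],
      WidePullback.lift_base _ _ _ _⟩
    refine ⟨b ≫ inv (CohB1.ProjSpaceOver.toBase 0 S), inferInstance, inferInstance, ?_⟩
    rw [Category.assoc, IsIso.inv_hom_id, Category.comp_id]
  | succ n ih =>
    obtain ⟨φ, hφ, hφ', hφb⟩ := ih
    obtain ⟨ψ, hψ, hψ', hψb⟩ := exists_mulOver n S
    let f₁ : ∀ k : ℕ, Fin k → (CohB1.ProjSpaceOver 1 S ⟶ S) := fun _ _ => CohB1.ProjSpaceOver.toBase 1 S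
    let B := WidePullback.base (f₁ n)
    let e : widePullback S (fun _ : Fin (n + 1) => CohB1.ProjSpaceOver 1 S) (f₁ (n + 1)) ≅
        pullback B (CohB1.ProjSpaceOver.toBase 1 S) :=
      { hom := pullback.lift
          (WidePullback.lift (WidePullback.base _) (fun i => WidePullback.π (f₁ (n + 1)) i.castSucc)
            fun i => WidePullback.π_arrow (f₁ (n + 1)) i.castSucc)
          (WidePullback.π (f₁ (n + 1)) (Fin.last n))
          ((WidePullback.lift_base _ _ _ _).trans (WidePullback.π_arrow (f₁ (n + 1)) (Fin.last n)).symm)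
        inv := WidePullback.lift (pullback.fst _ _ ≫ B)
          (Fin.lastCases (pullback.snd _ _) fun i => pullback.fst _ _ ≫ WidePullback.π (f₁ n) i)
          (fun i => by
            induction i using Fin.lastCases with
            | last => rw [Fin.lastCases_last]; exact pullback.condition.symm
            | cast j => rw [Fin.lastCases_castSucc, Category.assoc]; exact congrArg _ (WidePullback.π_arrow (f₁ n) j))
        hom_inv_id := by
          refine WidePullback.hom_ext _ _ _ (fun i => ?_) ?_
          · rw [Category.assoc, Category.id_comp]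
            erw [WidePullback.lift_π]
            induction i using Fin.lastCases with
            | last => simp
            | cast j => simp
          · simp [B]
        inv_hom_id := by
          apply pullback.hom_ext
          · refine WidePullback.hom_ext _ _ _ (fun i => ?_) ?_
            · simp
            · simp [B]
          · simp }
    let M : pullback B (CohB1.ProjSpaceOver.toBase 1 S) ⟶
        pullback (CohB1.ProjSpaceOver.toBase n S) (CohB1.ProjSpaceOver.toBase 1 S) :=
      pullback.map _ _ _ _ φ (𝟙 _) (𝟙 S) (by rw [Category.comp_id]; exact hφb.symm) (by simp)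
    have hM : IsFinite M := MorphismProperty.pullbackMap (P := @IsFinite) hφ
      (inferInstanceAs (IsFinite (𝟙 _))) hφb.symm (Category.id_comp _).symm
    have hM' : Surjective M := MorphismProperty.pullbackMap (P := @Surjective) hφ'
      (inferInstanceAs (Surjective (𝟙 _))) hφb.symm (Category.id_comp _).symm
    haveI : IsIso e.hom := Iso.isIso_hom e
    refine ⟨e.hom ≫ M ≫ ψ, inferInstance, inferInstance, ?_⟩
    rw [Category.assoc, Category.assoc, hψb, pullback.lift_fst_assoc, Category.assoc, hφb]
    simp [e, B, f₁]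

end GrothLib.LinProj
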